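import Groth.Agent.PurBir.Stalk
import Groth.Agent.Triage.ZMTBir
import Groth.Agent.S5067

/-!
# Purity for birational morphisms to factorial schemes
-/

set_option autoImplicit false

universe u

open CategoryTheory CategoryTheory.Limits AlgebraicGeometry TopologicalSpace

namespace Groth.Agent.PurBir

variable {X Y : Scheme.{u}} [IsIntegral X] [IsLocallyNoetherian X] [IsIntegral Y] (g : X ⟶ Y)
  [LocallyOfFiniteType g] (hY : ∀ y : Y, UniqueFactorizationMonoid (Y.presheaf.stalk y))
  {W : X.Opens} (hW : (W : Set X).Nonempty) [IsOpenImmersion (W.ι ≫ g)]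

omit [IsLocallyNoetherian X] in
include hY hW in
theorem isIso_stalkMap_of_quasiFiniteAt (x : X) (hx : g.QuasiFiniteAt x) : IsIso (g.stalkMap x) := by
  obtain ⟨V, hV, hyV, -⟩ := exists_isAffineOpen_mem_and_subset (x := g x) (U := ⊤) trivial
  obtain ⟨U, hU, hxU, hUV⟩ := exists_isAffineOpen_mem_and_subset (x := x)
    (U := g ⁻¹ᵁ V ⊓ g.quasiFiniteLocus) ⟨hyV, hx⟩
  have hle : U ≤ g ⁻¹ᵁ V := fun z hz => (hUV hz).1
  haveI : Nonempty (U : Scheme.{u}) := ⟨⟨x, hxU⟩⟩
  haveI : Nonempty (V : Scheme.{u}) := ⟨⟨g x, hyV⟩⟩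
  haveI : IsIntegral (U : Scheme.{u}) := isIntegral_of_isOpenImmersion U.ι
  haveI : IsIntegral (V : Scheme.{u}) := isIntegral_of_isOpenImmersion V.ι
  haveI : IsAffine (U : Scheme.{u}) := hU
  haveI : IsAffine (V : Scheme.{u}) := hV
  haveI : LocallyQuasiFinite (U.ι ≫ g) := by
    rw [← Scheme.Hom.quasiFiniteLocus_eq_top_iff, Scheme.Hom.quasiFiniteLocus_comp]
    exact top_le_iff.mp fun z _ => (hUV z.2).2
  let h := g.resLE V U hle
  haveI : LocallyQuasiFinite (h ≫ V.ι) := by rw [Scheme.Hom.resLE_comp_ι]; infer_instance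
  haveI : LocallyQuasiFinite h := LocallyQuasiFinite.of_comp h V.ι
  haveI : LocallyOfFiniteType (h ≫ V.ι) := by rw [Scheme.Hom.resLE_comp_ι]; infer_instance
  haveI : LocallyOfFiniteType h := locallyOfFiniteType_of_comp h V.ι
  haveI : IsAffineHom h := isAffineHom_of_isAffine h
  -- birationality
  have e := map_genericPoint g hW
  have hgU : U.ι (genericPoint (U : Scheme.{u})) = genericPoint X := genericPoint_eq_of_isOpenImmersion U.ι
  have hgV : V.ι (genericPoint (V : Scheme.{u})) = genericPoint Y := genericPoint_eq_of_isOpenImmersion V.ι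
  have hgen : h (genericPoint (U : Scheme.{u})) = genericPoint (V : Scheme.{u}) := by
    apply V.ι.isOpenEmbedding.injective
    rw [← Scheme.Hom.comp_apply, Scheme.Hom.resLE_comp_ι, Scheme.Hom.comp_apply, hgU, e, hgV]
  haveI hVι : ∀ v : (V : Scheme.{u}), IsIso (V.ι.stalkMap v) := fun v => inferInstance
  have key : ∀ z : (U : Scheme.{u}), IsIso (g.stalkMap (U.ι z)) ↔ IsIso (h.stalkMap z) := by
    intro z
    have h1 : IsIso ((U.ι ≫ g).stalkMap z) ↔ IsIso (g.stalkMap (U.ι z)) := by
      rw [Scheme.Hom.stalkMap_comp]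
      exact ⟨fun hh => @IsIso.of_isIso_comp_right _ _ _ _ _ _ (U.ι.stalkMap z) inferInstance hh,
        fun hh => @IsIso.comp_isIso _ _ _ _ _ _ _ hh inferInstance⟩
    have h2 : IsIso ((h ≫ V.ι).stalkMap z) ↔ IsIso (h.stalkMap z) := by
      rw [Scheme.Hom.stalkMap_comp]
      exact ⟨fun hh => @IsIso.of_isIso_comp_left _ _ _ _ _ (V.ι.stalkMap (h z)) (h.stalkMap z) (hVι _) hh,
        fun hh => @IsIso.comp_isIso _ _ _ _ _ _ _ (hVι _) hh⟩
    rw [← h1, ← h2, Scheme.Hom.stalkMap_congr_hom _ _ (Scheme.Hom.resLE_comp_ι g hle)]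
    exact ⟨fun hh => @IsIso.comp_isIso _ _ _ _ _ _ _ inferInstance hh,
      fun hh => @IsIso.of_isIso_comp_left _ _ _ _ _ _ _ inferInstance hh⟩
  have hbir : IsIso (h.stalkMap (genericPoint (U : Scheme.{u}))) :=
    (key _).1 (by rw [hgU]; exact isIso_stalkMap_of_mem g (genericPoint_mem hW))
  have hN : ∀ v : (V : Scheme.{u}), IsIntegrallyClosed ((V : Scheme.{u}).presheaf.stalk v) := fun v => by
    haveI := hY (V.ι v)
    exact IsIntegrallyClosed.of_equiv (asIso (V.ι.stalkMap v)).commRingCatIsoToRingEquiv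
  haveI := Triage.ZMTBir.isOpenImmersion_of_birational hN h hgen hbir
  have := (key ⟨x, hxU⟩).2 inferInstance
  exact this

include hY hW in
theorem isLocalIso_of_quasiFiniteAt
    (hq : ∀ x : X, ringKrullDim (X.presheaf.stalk x) = 1 → g.QuasiFiniteAt x) : IsLocalIso g := by
  suffices h : ∀ n : ℕ, ∀ x : X, Order.coheight x ≤ n → IsIso (g.stalkMap x) by
    refine ⟨fun x => exists_isOpenImmersion_of_isIso_stalkMap g ?_⟩
    obtain ⟨n, hn⟩ := ENat.ne_top_iff_exists.1 (show Order.coheight x ≠ ⊤ by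
      intro hc
      exact ne_of_lt (ringKrullDim_lt_top (R := X.presheaf.stalk x))
        (by rw [ringKrullDim_stalk_eq_coheight, hc]; rfl))
    exact h n x hn.ge
  intro n
  induction n using Nat.strong_induction_on with
  | _ n IH =>
    intro x hx
    by_cases hd : ringKrullDim (X.presheaf.stalk x) = 1
    · exact isIso_stalkMap_of_quasiFiniteAt g hY hW x (hq x hd)
    refine isIso_stalkMap_of_ringKrullDim g hY hW x hd fun η hη hne => ?_
    have hlt : Order.coheight η < Order.coheight x := by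
      refine Order.coheight_strictAnti ?_ (lt_of_le_of_lt ((Order.coheight_anti (show x ≤ η from hη)).trans hx) (ENat.natCast_lt_top n))
      exact lt_of_le_not_ge hη fun h => hne (hη.antisymm h).eq
    have hlt' : Order.coheight η < (n : ℕ∞) := lt_of_lt_of_le hlt hx
    obtain ⟨m, hm⟩ := ENat.ne_top_iff_exists.1 (ne_top_of_lt hlt')
    rw [← hm, Nat.cast_lt] at hlt'
    exact IH m hlt' η hm.ge

omit [IsLocallyNoetherian X] [LocallyOfFiniteType g] in
include hW in
theorem isOpenImmersion_of_isLocalIso [IsLocalIso g] [IsSeparated g] : IsOpenImmersion g := by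
  haveI : Etale g := (IsLocalIso.le_of_isZariskiLocalAtSource @Etale) X Y g inferInstance
  haveI := isIso_stalkMap_of_mem g (genericPoint_mem hW)
  refine S5067.result g (map_genericPoint g hW) ⟨RingHom.injective _, fun y => ?_⟩
  obtain ⟨a, rfl⟩ := X.residue_surjective (genericPoint X) y
  obtain ⟨b, rfl⟩ := (ConcreteCategory.bijective_of_isIso (g.stalkMap (genericPoint X))).2 a
  exact ⟨Y.residue _ b, congr($(Scheme.residue_residueFieldMap g (genericPoint X)) b)⟩

end Groth.Agent.PurBir
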