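import Groth.Agent.CDiv6.Factorial
import Mathlib.RingTheory.Ideal.KrullsHeightTheorem
import Mathlib.RingTheory.Localization.NumDen

/-!
# Birational local homomorphisms out of factorial rings
-/

set_option autoImplicit false

namespace Groth.Agent.PurBir

/-- A birational local homomorphism `B → A` from a factorial domain is bijective when every height one
prime of `A` lies over a height one prime and `A` does not have dimension one. -/
theorem bijective_of_height_one {B A : Type*} [CommRing B] [IsDomain B] [UniqueFactorizationMonoid B]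
    [CommRing A] [IsDomain A] [IsNoetherianRing A]
    (φ : B →+* A) [IsLocalHom φ] (hinj : Function.Injective φ)
    (hfrac : ∀ a : A, ∃ b c : B, c ≠ 0 ∧ a * φ c = φ b)
    (hone : ∀ q : Ideal A, q.IsPrime → q.height = 1 → (q.comap φ).height ≤ 1) :
    Function.Bijective φ := by
  refine ⟨hinj, fun a => ?_⟩
  obtain ⟨b, c, hc, hbc⟩ := hfrac a
  obtain ⟨b', c', d, hrel, hb, hcd⟩ := UniqueFactorizationMonoid.exists_reduced_factors' b c hc
  have hd : d ≠ 0 := fun h => hc (by rw [← hcd, h, zero_mul])
  have hc' : c' ≠ 0 := fun h => hc (by rw [← hcd, h, mul_zero])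
  have hbc' : a * φ c' = φ b' := by
    refine mul_left_cancel₀ (show φ d ≠ 0 from fun h => hd (hinj (h.trans (map_zero φ).symm))) ?_
    rw [← mul_left_comm, ← map_mul, ← map_mul, hcd, hb, hbc]
  have hu : IsUnit (φ c') := by
    by_contra hu
    obtain ⟨m, hm, hle⟩ := Ideal.exists_le_maximal _ (mt Ideal.span_singleton_eq_top.1 hu)
    haveI := hm
    obtain ⟨q, hq, -⟩ := Ideal.exists_minimalPrimes_le hle
    haveI : q.IsPrime := hq.1.1
    have hcq : φ c' ∈ q := hq.1.2 (Ideal.mem_span_singleton_self _)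
    have hne : q ≠ ⊥ := fun h => hc' (hinj (((Ideal.mem_bot).1 (h ▸ hcq)).trans (map_zero φ).symm))
    have hq1 : q.height = 1 := CDiv6.height_eq_one_of_prime hne
      (Ideal.height_le_one_of_isPrincipal_of_mem_minimalPrimes (Ideal.span {φ c'}) q hq)
    have hne' : q.comap φ ≠ ⊥ := fun h => hc' ((Ideal.mem_bot).1 (h ▸ (show c' ∈ q.comap φ from hcq)))
    obtain ⟨π, hπ, hπp⟩ := Ideal.IsPrime.exists_mem_prime_of_ne_bot (I := q.comap φ) inferInstance hne'
    haveI : (Ideal.span {π}).IsPrime := (Ideal.span_singleton_prime hπp.ne_zero).2 hπp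
    have hπspan : Ideal.span {π} = q.comap φ := CDiv6.eq_of_le_of_height_one
      (by simpa using hπp.ne_zero) ((Ideal.span_singleton_le_iff_mem _).2 hπ)
      (CDiv6.height_eq_one_of_prime hne' (hone q inferInstance hq1))
    have hb' : b' ∈ q.comap φ := by
      show φ b' ∈ q
      rw [← hbc']
      exact q.mul_mem_left a hcq
    exact hπp.not_unit (hrel (Ideal.mem_span_singleton.1 (hπspan ▸ hb'))
      (Ideal.mem_span_singleton.1 (hπspan ▸ (show c' ∈ q.comap φ from hcq))))
  obtain ⟨u, hu'⟩ := hu.of_map φ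
  refine ⟨b' * ↑u⁻¹, ?_⟩
  rw [map_mul, ← hbc', ← hu', mul_assoc, ← map_mul, Units.mul_inv, map_one, mul_one]

end Groth.Agent.PurBir
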