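import Groth.Agent.PurBir.Alg
import Groth.Agent.MorLib.Birat
import Groth.Agent.BirNormal.Basic
import Mathlib.AlgebraicGeometry.FunctionField
import Mathlib.AlgebraicGeometry.Morphisms.LocalIso

/-!
# Local isomorphisms and birational morphisms
-/

set_option autoImplicit false

universe u

open CategoryTheory CategoryTheory.Limits AlgebraicGeometry TopologicalSpace

namespace Groth.Agent.PurBir

variable {X Y : Scheme.{u}} (g : X ⟶ Y)

theorem isIso_stalkMap_of_mem {W : X.Opens} [IsOpenImmersion (W.ι ≫ g)] {x : X} (hx : x ∈ W) :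
    IsIso (g.stalkMap x) := by
  let w : (W : Scheme.{u}) := ⟨x, hx⟩
  show IsIso (g.stalkMap (W.ι w))
  have h : IsIso ((W.ι ≫ g).stalkMap w) := inferInstance
  rw [Scheme.Hom.stalkMap_comp] at h
  exact @IsIso.of_isIso_comp_right _ _ _ _ _ (g.stalkMap (W.ι w)) (W.ι.stalkMap w) inferInstance h

theorem exists_isOpenImmersion_of_isIso_stalkMap [IsIntegral Y] [LocallyOfFiniteType g] {x : X}
    (h : IsIso (g.stalkMap x)) : ∃ W : X.Opens, x ∈ W ∧ IsOpenImmersion (W.ι ≫ g) := by
  obtain ⟨V₀, hV₀, hyV, -⟩ := exists_isAffineOpen_mem_and_subset (x := g x) (U := ⊤) trivial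
  obtain ⟨U₀, hU₀, hxU, hUV⟩ := exists_isAffineOpen_mem_and_subset (x := x) (U := g ⁻¹ᵁ V₀) hyV
  haveI : Nonempty V₀ := ⟨⟨g x, hyV⟩⟩
  obtain ⟨U, V, hle, hx, -, -, hiso⟩ :=
    MorLib.Birat.exists_isIso_resLE g h hV₀ hU₀ hUV hxU (.inr inferInstance)
  refine ⟨U, hx, ?_⟩
  rw [← Scheme.Hom.resLE_comp_ι g hle]
  infer_instance

theorem map_genericPoint [IsIntegral X] [IsIntegral Y] {W : X.Opens} (hW : (W : Set X).Nonempty)
    [IsOpenImmersion (W.ι ≫ g)] : g (genericPoint X) = genericPoint Y := by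
  obtain ⟨w, hw⟩ := hW
  haveI : Nonempty (W : Scheme.{u}) := ⟨⟨w, hw⟩⟩
  haveI : IsIntegral (W : Scheme.{u}) := isIntegral_of_isOpenImmersion W.ι
  rw [← genericPoint_eq_of_isOpenImmersion W.ι, ← Scheme.Hom.comp_apply]
  exact genericPoint_eq_of_isOpenImmersion (W.ι ≫ g)

theorem genericPoint_mem [IsIntegral X] {W : X.Opens} (hW : (W : Set X).Nonempty) : genericPoint X ∈ W := by
  obtain ⟨w, hw⟩ := hW
  exact (genericPoint_spec X).mem_open_set_iff W.isOpen |>.mpr ⟨w, trivial, hw⟩

theorem isIso_stalkMap_of_ringKrullDim [IsIntegral X] [IsLocallyNoetherian X] [IsIntegral Y]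
    (hY : ∀ y : Y, UniqueFactorizationMonoid (Y.presheaf.stalk y)) {W : X.Opens}
    (hW : (W : Set X).Nonempty) [IsOpenImmersion (W.ι ≫ g)] (ξ : X)
    (hdim : ringKrullDim (X.presheaf.stalk ξ) ≠ 1)
    (hgen : ∀ η : X, η ⤳ ξ → η ≠ ξ → IsIso (g.stalkMap η)) : IsIso (g.stalkMap ξ) := by
  have e := map_genericPoint g hW
  haveI := isIso_stalkMap_of_mem g (genericPoint_mem hW)
  haveI := BirNormal.isIso_stalkSpecializes_of_eq e (specializes_of_eq e)
  let ψ : Y.functionField ⟶ X.functionField :=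
    Y.presheaf.stalkSpecializes (specializes_of_eq e) ≫ g.stalkMap (genericPoint X)
  have hψ : Function.Bijective ψ.hom := ConcreteCategory.bijective_of_isIso ψ
  let B := Y.presheaf.stalk (g ξ)
  let A := X.presheaf.stalk ξ
  haveI : UniqueFactorizationMonoid B := hY (g ξ)
  have hsq : ∀ b : B, ψ (algebraMap B Y.functionField b) = algebraMap A X.functionField (g.stalkMap ξ b) := by
    intro b
    have h := g.stalkSpecializes_stalkMap (genericPoint X) ξ ((genericPoint_spec X).specializes trivial)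
    refine Eq.trans (congrArg (g.stalkMap (genericPoint X)).hom ?_) congr($h b)
    exact congr($(TopCat.Presheaf.stalkSpecializes_comp Y.presheaf (specializes_of_eq e)
      ((genericPoint_spec Y).specializes trivial)) b)
  have hinj : Function.Injective (g.stalkMap ξ).hom := fun a b h => by
    apply IsFractionRing.injective B Y.functionField
    apply hψ.1
    rw [hsq, hsq]
    exact congrArg _ h
  refine (ConcreteCategory.isIso_iff_bijective _).2
    (bijective_of_height_one (g.stalkMap ξ).hom hinj (fun a => ?_) fun q hq hq1 => ?_)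
  · obtain ⟨z, hz⟩ := hψ.2 (algebraMap A X.functionField a)
    obtain ⟨b, c, hc, rfl⟩ := IsFractionRing.div_surjective B z
    have hc0 : (c : B) ≠ 0 := nonZeroDivisors.ne_zero hc
    refine ⟨b, c, hc0, IsFractionRing.injective A X.functionField ?_⟩
    rw [map_mul, ← hsq, ← hsq, ← hz, ← map_mul, div_mul_cancel₀]
    exact (map_ne_zero_iff _ (IsFractionRing.injective B Y.functionField)).2 hc0
  · haveI := hq
    let Q : PrimeSpectrum A := ⟨q, hq⟩
    let η : X := X.fromSpecStalk ξ Q
    have hη : η ⤳ ξ := CDiv6.fromSpecStalk_specializes Q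
    have hη1 : Order.coheight η = 1 := by
      rw [← CDiv6.height_primeOf hη, CDiv6.primeOf_fromSpecStalk]
      exact hq1
    have hne : η ≠ ξ := by
      intro h
      rw [h] at hη1
      exact hdim (by rw [ringKrullDim_stalk_eq_coheight, hη1]; rfl)
    haveI := hgen η hη hne
    have hpt : Y.fromSpecStalk (g ξ) ⟨q.comap (g.stalkMap ξ).hom, inferInstance⟩ = g η := by
      show _ = (X.fromSpecStalk ξ ≫ g) Q
      rw [← Scheme.SpecMap_stalkMap_fromSpecStalk]
      rfl
    have hspec := CDiv6.fromSpecStalk_specializes (X := Y) (x := g ξ) ⟨q.comap (g.stalkMap ξ).hom, inferInstance⟩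
    have hh : (q.comap (g.stalkMap ξ).hom).height = Order.coheight (g η) := by
      rw [← hpt, ← CDiv6.height_primeOf hspec, CDiv6.primeOf_fromSpecStalk]
    rw [hh]
    have hd : ringKrullDim (Y.presheaf.stalk (g η)) = ringKrullDim (X.presheaf.stalk η) :=
      ringKrullDim_eq_of_ringEquiv (asIso (g.stalkMap η)).commRingCatIsoToRingEquiv
    rw [ringKrullDim_stalk_eq_coheight, ringKrullDim_stalk_eq_coheight, hη1] at hd
    exact (WithBot.coe_injective hd).le

end Groth.Agent.PurBir
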